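import Mathlib.CategoryTheory.Linear.LinearFunctor
import Mathlib.CategoryTheory.Equivalence
import Mathlib.LinearAlgebra.Dual.Lemmas
import Mathlib.RingTheory.Finiteness.Projective

/-!
# Serre functors of Hom-finite linear categories
-/

set_option autoImplicit false

universe w v u

open CategoryTheory

namespace Groth.Agent.H02CA.Serre

variable {k : Type w} [Field k]

/-- The transpose of a perfect pairing. -/
noncomputable def tp {V W : Type v} [AddCommGroup V] [Module k V] [AddCommGroup W] [Module k W]
    [Module.Finite k W] (e : V ≃ₗ[k] Module.Dual k W) : W ≃ₗ[k] Module.Dual k V :=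
  (Module.evalEquiv k W).trans e.dualMap

lemma tp_apply {V W : Type v} [AddCommGroup V] [Module k V] [AddCommGroup W] [Module k W]
    [Module.Finite k W] (e : V ≃ₗ[k] Module.Dual k W) (x : W) (y : V) : tp e x y = e y x := rfl

variable {T : Type u} [Category.{v} T] [Preadditive T] [Linear k T]

/-- A representation of the dual of the functor of maps out of an object. -/
structure Rep (k : Type w) [Field k] {T : Type u} [Category.{v} T] [Preadditive T] [Linear k T] (X : T) where
  /-- The representing object. -/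
  S : T
  /-- The pairing. -/
  e : ∀ Y : T, (Y ⟶ S) ≃ₗ[k] Module.Dual k (X ⟶ Y)
  natural : ∀ {Y Y' : T} (g : Y' ⟶ Y) (h : Y ⟶ S) (f : X ⟶ Y'), e Y' (g ≫ h) f = e Y h (f ≫ g)

namespace Rep

variable {X : T} (r : Rep k X)

/-- The trace. -/
def tr : Module.Dual k (X ⟶ r.S) := r.e r.S (𝟙 r.S)

lemma e_eq {Y : T} (h : Y ⟶ r.S) (f : X ⟶ Y) : r.e Y h f = r.tr (f ≫ h) := by
  rw [tr, ← r.natural, Category.comp_id]

lemma ext {Y : T} {h h' : Y ⟶ r.S} (H : ∀ f : X ⟶ Y, r.e Y h f = r.e Y h' f) : h = h' :=
  (r.e Y).injective (LinearMap.ext H)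

/-- The map to another representation. -/
def comparison (s : Rep k X) : r.S ⟶ s.S := (s.e r.S).symm r.tr

lemma comparison_spec (s : Rep k X) {Y : T} (h : Y ⟶ r.S) (f : X ⟶ Y) :
    s.e Y (h ≫ r.comparison s) f = r.e Y h f := by
  rw [s.natural, comparison, LinearEquiv.apply_symm_apply, r.e_eq]

lemma comparison_comp (s : Rep k X) : r.comparison s ≫ s.comparison r = 𝟙 r.S := by
  refine r.ext fun f => ?_
  rw [s.comparison_spec r, ← Category.id_comp (r.comparison s), r.comparison_spec s]

/-- Representations are unique. -/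
def iso (s : Rep k X) : r.S ≅ s.S where
  hom := r.comparison s
  inv := s.comparison r
  hom_inv_id := r.comparison_comp s
  inv_hom_id := s.comparison_comp r

end Rep

/-- The map between representing objects of a map. -/
def repMap (r : ∀ X : T, Rep k X) {X' X : T} (a : X' ⟶ X) : (r X').S ⟶ (r X).S :=
  ((r X).e (r X').S).symm ((r X').tr.comp (Linear.leftComp k (r X').S a))

lemma repMap_spec (r : ∀ X : T, Rep k X) {X' X : T} (a : X' ⟶ X) {Y : T} (h : Y ⟶ (r X').S) (f : X ⟶ Y) :
    (r X).e Y (h ≫ repMap r a) f = (r X').e Y h (a ≫ f) := by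
  rw [(r X).natural, repMap, LinearEquiv.apply_symm_apply, (r X').e_eq, Category.assoc]
  rfl

/-- The functor of representing objects. -/
def repFunctor (r : ∀ X : T, Rep k X) : T ⥤ T where
  obj X := (r X).S
  map a := repMap r a
  map_id X := (r X).ext fun f => by
    rw [← Category.id_comp (repMap r _), repMap_spec, Category.id_comp]
  map_comp {X Y Z} a b := (r Z).ext fun f => by
    rw [repMap_spec r b, ← Category.id_comp (repMap r (a ≫ b)), repMap_spec r (a ≫ b),
      ← Category.id_comp (repMap r a), repMap_spec r a, Category.assoc]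

variable (r : ∀ X : T, Rep k X)

instance repFunctor_additive : (repFunctor r).Additive where
  map_add {X Y} {a b} := (r Y).ext fun f => by
    change (r Y).e _ (repMap r (a + b)) f = (r Y).e _ (repMap r a + repMap r b) f
    rw [map_add, LinearMap.add_apply, ← Category.id_comp (repMap r (a + b)), ← Category.id_comp (repMap r a),
      ← Category.id_comp (repMap r b), repMap_spec, repMap_spec, repMap_spec, Preadditive.add_comp, map_add]

instance repFunctor_linear : (repFunctor r).Linear k where
  map_smul {X Y} a c := (r Y).ext fun f => by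
    change (r Y).e _ (repMap r (c • a)) f = (r Y).e _ (c • repMap r a) f
    rw [map_smul, LinearMap.smul_apply, ← Category.id_comp (repMap r (c • a)), ← Category.id_comp (repMap r a),
      repMap_spec, repMap_spec, Linear.smul_comp, map_smul]

variable [∀ X Y : T, Module.Finite k (X ⟶ Y)]

lemma repMap_eq {X' X : T} (a : X' ⟶ X) :
    (r X).e (r X').S (repMap r a) = tp ((r X').e X) a := by
  ext f
  rw [← Category.id_comp (repMap r a), repMap_spec, tp_apply, (r X').e_eq, (r X').e_eq, Category.comp_id]

instance repFunctor_full : (repFunctor r).Full where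
  map_surjective {X' X} h :=
    ⟨(tp ((r X').e X)).symm ((r X).e _ h), ((r X).e _).injective ((repMap_eq r _).trans
      (LinearEquiv.apply_symm_apply _ _))⟩

instance repFunctor_faithful : (repFunctor r).Faithful where
  map_injective {X' X} a b h := (tp ((r X').e X)).injective
    ((repMap_eq r a).symm.trans ((congrArg ((r X).e _) h).trans (repMap_eq r b)))

/-- An object representing the dual of maps into an object is a representation. -/
noncomputable def repOfCorep {X RX : T} (e : ∀ Y : T, (RX ⟶ Y) ≃ₗ[k] Module.Dual k (Y ⟶ X))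
    (he : ∀ {Y Y' : T} (g : Y ⟶ Y') (f : RX ⟶ Y), e Y' (f ≫ g) = (e Y f) ∘ₗ Linear.leftComp k X g) :
    Rep k RX where
  S := X
  e Y := tp (e Y)
  natural g h f := by
    rw [tp_apply, tp_apply, he]
    rfl

include r in
/-- Representations give Serre functors. -/
theorem exists_serre (hR : ∀ X : T, ∃ (RX : T) (e : ∀ Y : T, (RX ⟶ Y) ≃ₗ[k] Module.Dual k (Y ⟶ X)),
      ∀ (Y Y' : T) (g : Y ⟶ Y') (f : RX ⟶ Y), e Y' (f ≫ g) = (e Y f) ∘ₗ Linear.leftComp k X g) :
    ∃ (S : T ≌ T) (_ : S.functor.Additive) (_ : S.functor.Linear k)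
      (c : ∀ X Y : T, (X ⟶ Y) ≃ₗ[k] Module.Dual k (Y ⟶ S.functor.obj X)),
      (∀ (X Y Y' : T) (f : X ⟶ Y) (g : Y ⟶ Y'),
        c X Y' (f ≫ g) = (c X Y f) ∘ₗ Linear.leftComp k (S.functor.obj X) g) ∧
      (∀ (X' X Y : T) (a : X' ⟶ X) (f : X ⟶ Y),
        c X' Y (a ≫ f) = (c X Y f) ∘ₗ Linear.rightComp k Y (S.functor.map a)) := by
  haveI : (repFunctor r).EssSurj := ⟨fun X => by
    obtain ⟨RX, e, he⟩ := hR X
    exact ⟨RX, ⟨(r RX).iso (repOfCorep e fun g f => he _ _ g f)⟩⟩⟩
  haveI : (repFunctor r).IsEquivalence := { }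
  refine ⟨(repFunctor r).asEquivalence, inferInstanceAs (repFunctor r).Additive,
    inferInstanceAs ((repFunctor r).Linear k), fun X Y => tp ((r X).e Y), ?_, ?_⟩
  · intro X Y Y' f g
    ext h
    exact ((r X).natural g h f).symm
  · intro X' X Y a f
    ext h
    exact (repMap_spec r a h f).symm

end Groth.Agent.H02CA.Serre
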