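import Groth.Agent.H02CA.Serre.Basic
import Mathlib.CategoryTheory.Triangulated.Pretriangulated
import Mathlib.CategoryTheory.Triangulated.Functor

/-!
# Serre functors are exact
-/

set_option autoImplicit false

universe w v u

open CategoryTheory CategoryTheory.Limits CategoryTheory.Pretriangulated

namespace Groth.Agent.H02CA.Serre

variable {k : Type w} [Field k] {T : Type u} [Category.{v} T] [Preadditive T] [Linear k T] [HasShift T ℤ]
  [∀ n : ℤ, (shiftFunctor T n).Additive] [∀ n : ℤ, (shiftFunctor T n).Linear k]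

variable (k) in
/-- The shift on morphisms. -/
noncomputable def shEquiv (A B : T) :
    (A ⟶ B) ≃ₗ[k] ((shiftFunctor T (1 : ℤ)).obj A ⟶ (shiftFunctor T (1 : ℤ)).obj B) :=
  LinearEquiv.ofBijective ((shiftFunctor T (1 : ℤ)).mapLinearMap k) ((Functor.FullyFaithful.ofFullyFaithful _).map_bijective A B)

lemma shEquiv_apply {A B : T} (f : A ⟶ B) : shEquiv k A B f = (shiftFunctor T (1 : ℤ)).map f := rfl

lemma shEquiv_symm_comp {A B C : T} (f : (shiftFunctor T (1 : ℤ)).obj A ⟶ (shiftFunctor T (1 : ℤ)).obj B)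
    (g : (shiftFunctor T (1 : ℤ)).obj B ⟶ (shiftFunctor T (1 : ℤ)).obj C) :
    (shEquiv k A C).symm (f ≫ g) = (shEquiv k A B).symm f ≫ (shEquiv k B C).symm g := by
  apply (shEquiv k A C).injective
  rw [LinearEquiv.apply_symm_apply, shEquiv_apply, Functor.map_comp, ← shEquiv_apply (k := k),
    ← shEquiv_apply (k := k), LinearEquiv.apply_symm_apply, LinearEquiv.apply_symm_apply]

/-- The unit iso of a shift. -/
noncomputable def unshift (Y : T) : (shiftFunctor T (1 : ℤ)).obj ((shiftFunctor T (-1 : ℤ)).obj Y) ≅ Y :=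
  (shiftFunctorCompIsoId T (-1 : ℤ) 1 (by simp)).app Y

/-- The shifted pairing, with a sign. -/
noncomputable def shiftRep {X : T} (r : Rep k X) : Rep k ((shiftFunctor T (1 : ℤ)).obj X) where
  S := (shiftFunctor T (1 : ℤ)).obj r.S
  e Y := (((Linear.homCongr k (unshift Y).symm (Iso.refl _)).trans
      (shEquiv k ((shiftFunctor T (-1 : ℤ)).obj Y) r.S).symm).trans
    ((r.e _).trans (((Linear.homCongr k (Iso.refl _) (unshift Y).symm).trans
      (shEquiv k X ((shiftFunctor T (-1 : ℤ)).obj Y)).symm).dualMap))).trans (LinearEquiv.neg k)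
  natural {Y Y'} g h f := by
    simp only [LinearEquiv.trans_apply, LinearEquiv.neg_apply, LinearMap.neg_apply, LinearEquiv.dualMap_apply,
      r.e_eq, Linear.homCongr_apply, Iso.refl_hom, Iso.refl_inv, Category.id_comp, Category.comp_id,
      ← shEquiv_symm_comp]
    simp

lemma shiftRep_tr {X : T} (r : Rep k X)
    (w : (shiftFunctor T (1 : ℤ)).obj X ⟶ (shiftFunctor T (1 : ℤ)).obj r.S) :
    (shiftRep r).tr w = -r.tr ((shEquiv k X r.S).symm w) := by
  simp only [Rep.tr, shiftRep, LinearEquiv.trans_apply, LinearEquiv.neg_apply, LinearMap.neg_apply,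
    LinearEquiv.dualMap_apply, Linear.homCongr_apply, Iso.refl_hom, Iso.refl_inv, Category.id_comp,
    Category.comp_id]
  refine congrArg Neg.neg ?_
  refine (r.e_eq _ _).trans (congrArg r.tr ?_)
  simp only [LinearEquiv.coe_coe, LinearEquiv.trans_apply, Linear.homCongr_apply, Iso.refl_hom, Iso.refl_inv,
    Category.id_comp, Category.comp_id]
  rw [← shEquiv_symm_comp]
  simp

variable [HasZeroObject T] [Pretriangulated T]

/-- Serre functors are exact. -/
theorem exists_exact (S : T ≌ T) [S.functor.Additive]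
    [∀ X Y : T, Module.Finite k (X ⟶ Y)]
    (c : ∀ X Y : T, (X ⟶ Y) ≃ₗ[k] Module.Dual k (Y ⟶ S.functor.obj X))
    (hc₁ : ∀ (X Y Y' : T) (f : X ⟶ Y) (g : Y ⟶ Y'),
      c X Y' (f ≫ g) = (c X Y f) ∘ₗ Linear.leftComp k (S.functor.obj X) g)
    (hc₂ : ∀ (X' X Y : T) (a : X' ⟶ X) (f : X ⟶ Y),
      c X' Y (a ≫ f) = (c X Y f) ∘ₗ Linear.rightComp k Y (S.functor.map a)) :
    ∃ e : shiftFunctor T (1 : ℤ) ⋙ S.functor ≅ S.functor ⋙ shiftFunctor T (1 : ℤ),
      ∀ T' ∈ distTriang T,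
        Triangle.mk (S.functor.map T'.mor₁) (S.functor.map T'.mor₂)
          (S.functor.map T'.mor₃ ≫ e.hom.app T'.obj₁) ∈ distTriang T := by
  let r : ∀ X : T, Rep k X := fun X => ⟨S.functor.obj X, fun Y => tp (c X Y), fun g h f => by
    rw [tp_apply, tp_apply, hc₁]; rfl⟩
  have htr : ∀ {X' X : T} (a : X' ⟶ X) (z : X ⟶ S.functor.obj X'),
      (r X).tr (z ≫ S.functor.map a) = (r X').tr (a ≫ z) := by
    intro X' X a z
    rw [← (r X).e_eq, ← (r X').e_eq]
    change c X _ z (S.functor.map a) = c X' X a z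
    calc c X _ z (S.functor.map a) = c X _ (𝟙 X ≫ z) (S.functor.map a) := by rw [Category.id_comp]
      _ = c X X (𝟙 X) (z ≫ S.functor.map a) := by rw [hc₁]; rfl
      _ = c X' X (a ≫ 𝟙 X) z := by rw [hc₂]; rfl
      _ = c X' X a z := by rw [Category.comp_id]
  let r' : ∀ A : T, Rep k ((shiftFunctor T (1 : ℤ)).obj A) := fun A => shiftRep (r A)
  let ε : ∀ A : T, S.functor.obj ((shiftFunctor T (1 : ℤ)).obj A) ≅
      (shiftFunctor T (1 : ℤ)).obj (S.functor.obj A) := fun A =>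
    (r ((shiftFunctor T (1 : ℤ)).obj A)).iso (r' A)
  have hε : ∀ (A : T) (f : (shiftFunctor T (1 : ℤ)).obj A ⟶ S.functor.obj ((shiftFunctor T (1 : ℤ)).obj A)),
      (r' A).tr (f ≫ (ε A).hom) = (r _).tr f := fun A f => by
    rw [← (r' A).e_eq, ← Category.id_comp (ε A).hom]
    exact ((r _).comparison_spec (r' A) (𝟙 _) f).trans
      (((r _).e_eq _ _).trans (congrArg _ (Category.comp_id f)))
  let e : shiftFunctor T (1 : ℤ) ⋙ S.functor ≅ S.functor ⋙ shiftFunctor T (1 : ℤ) :=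
    NatIso.ofComponents ε fun {A' A} a => (r' A).ext fun f => by
      refine ((r' A).e_eq _ _).trans (Eq.trans ?_ ((r' A).e_eq _ _).symm)
      change (r' A).tr (f ≫ S.functor.map ((shiftFunctor T (1 : ℤ)).map a) ≫ (ε A).hom) =
        (r' A).tr (f ≫ (ε A').hom ≫ (shiftFunctor T (1 : ℤ)).map (S.functor.map a))
      rw [← Category.assoc, hε, htr, ← hε A', Category.assoc, shiftRep_tr, shiftRep_tr]
      obtain ⟨z, hz⟩ := (shEquiv k A (S.functor.obj A')).surjective (f ≫ (ε A').hom)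
      have h1 : (shiftFunctor T (1 : ℤ)).map a ≫ f ≫ (ε A').hom =
          shEquiv k A' (S.functor.obj A') (a ≫ z) := by
        rw [← hz, shEquiv_apply, shEquiv_apply, Functor.map_comp]
      have h2 : f ≫ (ε A').hom ≫ (shiftFunctor T (1 : ℤ)).map (S.functor.map a) =
          shEquiv k A (S.functor.obj A) (z ≫ S.functor.map a) := by
        rw [← Category.assoc, ← hz, shEquiv_apply, shEquiv_apply, Functor.map_comp]
      refine congrArg Neg.neg ((congrArg (fun m => (r A').tr ((shEquiv k A' (r A').S).symm m)) h1).trans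
        (Eq.trans ?_ (congrArg (fun m => (r A).tr ((shEquiv k A (r A).S).symm m)) h2).symm))
      erw [LinearEquiv.symm_apply_apply, LinearEquiv.symm_apply_apply]
      exact (htr a z).symm
  refine ⟨e, fun T' hT' => ?_⟩
  obtain ⟨C₀, u, v, hT₀⟩ := distinguished_cocone_triangle (S.functor.map T'.mor₁)
  let L : ((T'.obj₃ ⟶ S.functor.obj T'.obj₂) × ((shiftFunctor T (1 : ℤ)).obj T'.obj₁ ⟶ C₀)) →ₗ[k]
      (T'.obj₃ ⟶ C₀) :=
    (Linear.rightComp k T'.obj₃ u).coprod (-Linear.leftComp k C₀ T'.mor₃)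
  let φ : Module.Dual k
      ((T'.obj₃ ⟶ S.functor.obj T'.obj₂) × ((shiftFunctor T (1 : ℤ)).obj T'.obj₁ ⟶ C₀)) :=
    ((r T'.obj₂).tr.comp (Linear.leftComp k (S.functor.obj T'.obj₂) T'.mor₂)).coprod
      ((r T'.obj₁).tr.comp ((shEquiv k _ _).symm.toLinearMap.comp
        (Linear.rightComp k ((shiftFunctor T (1 : ℤ)).obj T'.obj₁) v)))
  obtain ⟨lam, hlam⟩ : φ ∈ LinearMap.range L.dualMap := by
    rw [LinearMap.range_dualMap_eq_dualAnnihilator_ker, Submodule.mem_dualAnnihilator]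
    rintro ⟨x, y⟩ hxy
    have hsq : T'.mor₃ ≫ y = x ≫ u := by
      have : x ≫ u + -(T'.mor₃ ≫ y) = 0 := hxy
      exact (add_neg_eq_zero.1 this).symm
    obtain ⟨w, hw₁, hw₃⟩ := complete_distinguished_triangle_morphism₁ T'.rotate
      (Triangle.mk (S.functor.map T'.mor₁) u v) (rot_of_distTriang _ hT') hT₀ x y hsq
    change (r T'.obj₂).tr (T'.mor₂ ≫ x) + (r T'.obj₁).tr ((shEquiv k _ _).symm (y ≫ v)) = 0
    have hg : T'.mor₂ ≫ x = w ≫ S.functor.map T'.mor₁ := hw₁
    have hyv : y ≫ v = shEquiv k _ _ (-(T'.mor₁ ≫ w)) := by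
      rw [map_neg, shEquiv_apply, Functor.map_comp, ← Preadditive.neg_comp]
      exact hw₃.symm
    erw [hg, htr, hyv, LinearEquiv.symm_apply_apply, map_neg]
    exact add_neg_cancel _
  let δ : C₀ ⟶ S.functor.obj T'.obj₃ := ((r T'.obj₃).e C₀).symm lam
  have hδ : ∀ z : T'.obj₃ ⟶ C₀, (r T'.obj₃).tr (z ≫ δ) = lam z := fun z => by
    rw [← (r T'.obj₃).e_eq]
    exact LinearMap.congr_fun (LinearEquiv.apply_symm_apply _ lam) z
  have hu : u ≫ δ = S.functor.map T'.mor₂ := (r T'.obj₃).ext fun x => by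
    rw [(r _).e_eq, (r _).e_eq, ← Category.assoc, hδ, htr]
    have h : lam (L (x, 0)) = φ (x, 0) := LinearMap.congr_fun hlam (x, 0)
    simp only [L, φ, LinearMap.coprod_apply, map_zero, add_zero] at h
    exact h
  have hv : δ ≫ S.functor.map T'.mor₃ ≫ (ε T'.obj₁).hom = v := (r' T'.obj₁).ext fun y => by
    refine ((r' _).e_eq _ _).trans (Eq.trans ?_ ((r' _).e_eq _ _).symm)
    erw [← Category.assoc δ, ← Category.assoc y, hε, ← Category.assoc y δ, htr, ← Category.assoc, hδ, shiftRep_tr]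
    have h : lam (L (0, y)) = φ (0, y) := LinearMap.congr_fun hlam (0, y)
    simp only [L, φ, LinearMap.coprod_apply, map_zero, zero_add, LinearMap.neg_apply, map_neg] at h
    exact neg_eq_iff_eq_neg.1 h
  have hexact : ∀ {A B C : T} (g₁ : A ⟶ B) (g₂ : B ⟶ C),
      (∀ (W : T) (p : W ⟶ B), p ≫ g₂ = 0 → ∃ q, p = q ≫ g₁) →
      ∀ (W : T) (p : W ⟶ S.functor.obj B), p ≫ S.functor.map g₂ = 0 → ∃ q, p = q ≫ S.functor.map g₁ := by
    intro A B C g₁ g₂ h W p hp
    obtain ⟨q, hq⟩ := h (S.inverse.obj W) (S.functor.preimage ((S.counitIso.app W).hom ≫ p))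
      (S.functor.map_injective (by
        rw [Functor.map_comp, Functor.map_preimage, Category.assoc, hp, comp_zero, Functor.map_zero]))
    refine ⟨(S.counitIso.app W).inv ≫ S.functor.map q, ?_⟩
    rw [Category.assoc, ← Functor.map_comp, ← hq, Functor.map_preimage, Iso.inv_hom_id_assoc]
  have h12 : S.functor.map T'.mor₁ ≫ u = 0 := comp_distTriang_mor_zero₁₂ _ hT₀
  have h31 : v ≫ (shiftFunctor T (1 : ℤ)).map (S.functor.map T'.mor₁) = 0 := comp_distTriang_mor_zero₃₁ _ hT₀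
  have hiso : IsIso δ := by
    refine isIso_of_yoneda_map_bijective δ fun W => ⟨?_, ?_⟩
    · intro z z' hzz
      suffices key : ∀ z : W ⟶ C₀, z ≫ δ = 0 → z = 0 from
        sub_eq_zero.1 (key (z - z') (by rw [Preadditive.sub_comp]; exact sub_eq_zero.2 hzz))
      intro z hz
      have hzv : z ≫ v = 0 := by rw [← hv, ← Category.assoc, hz, zero_comp]
      obtain ⟨p, hp⟩ : ∃ p : W ⟶ S.functor.obj T'.obj₂, z = p ≫ u := Triangle.coyoneda_exact₃ _ hT₀ z hzv
      have hp' : p ≫ S.functor.map T'.mor₂ = 0 :=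
        ((congrArg (p ≫ ·) hu.symm).trans (Category.assoc _ _ _).symm).trans ((congrArg (· ≫ δ) hp).symm.trans hz)
      obtain ⟨q, hq⟩ := hexact T'.mor₁ T'.mor₂ (fun W p hp => Triangle.coyoneda_exact₂ T' hT' p hp) W p hp'
      rw [hp, hq]
      exact (Category.assoc _ _ _).trans ((congrArg (q ≫ ·) h12).trans comp_zero)
    · intro s
      have h0 : (s ≫ S.functor.map T'.mor₃ ≫ (ε T'.obj₁).hom) ≫
          (shiftFunctor T (1 : ℤ)).map (S.functor.map T'.mor₁) = 0 := by
        rw [Category.assoc, Category.assoc,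
          show (ε T'.obj₁).hom ≫ (shiftFunctor T (1 : ℤ)).map (S.functor.map T'.mor₁) =
            S.functor.map ((shiftFunctor T (1 : ℤ)).map T'.mor₁) ≫ (ε T'.obj₂).hom from
          (e.hom.naturality T'.mor₁).symm, ← S.functor.map_comp_assoc, comp_distTriang_mor_zero₃₁ _ hT',
          Functor.map_zero, zero_comp, comp_zero]
      obtain ⟨z, hz⟩ : ∃ z : W ⟶ C₀, s ≫ S.functor.map T'.mor₃ ≫ (ε T'.obj₁).hom = z ≫ v :=
        Triangle.coyoneda_exact₁ _ hT₀ (s ≫ S.functor.map T'.mor₃ ≫ (ε T'.obj₁).hom) h0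
      have hs : (s - z ≫ δ) ≫ S.functor.map T'.mor₃ = 0 := by
        rw [← cancel_mono (ε T'.obj₁).hom, zero_comp, Category.assoc, Preadditive.sub_comp, Category.assoc, hv,
          sub_eq_zero]
        exact hz
      obtain ⟨p, hp⟩ := hexact T'.mor₂ T'.mor₃ (fun W p hp => Triangle.coyoneda_exact₃ T' hT' p hp) W _ hs
      refine ⟨z + p ≫ u, ?_⟩
      change (z + p ≫ u) ≫ δ = s
      rw [Preadditive.add_comp, Category.assoc, hu, ← hp, add_sub_cancel]
  exact isomorphic_distinguished _ hT₀ _ (Triangle.isoMk _ _ (Iso.refl _) (Iso.refl _) (asIso δ).symm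
    ((Category.comp_id _).trans (Category.id_comp _).symm)
    (by
      change S.functor.map T'.mor₂ ≫ inv δ = 𝟙 _ ≫ u
      rw [IsIso.comp_inv_eq, Category.id_comp]
      exact hu.symm)
    (by
      change (S.functor.map T'.mor₃ ≫ e.hom.app T'.obj₁) ≫ (shiftFunctor T (1 : ℤ)).map (𝟙 _) = inv δ ≫ v
      rw [CategoryTheory.Functor.map_id]
      erw [Category.comp_id]
      rw [IsIso.eq_inv_comp]
      exact hv))

end Groth.Agent.H02CA.Serre
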